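import Mathlib

/-! Projectivity of a quotient `N ⧸ K`, tested at maximal ideals. -/

set_option autoImplicit false

universe u v

namespace Groth.Agent.H8.DM

open TensorProduct

section Local

variable {A : Type u} [CommRing A] [IsLocalRing A] {N : Type v} [AddCommGroup N] [Module A N]

theorem tmul_one_eq_zero_iff (x : N) :
    TensorProduct.mk A (IsLocalRing.ResidueField A) N 1 x = 0 ↔
      x ∈ IsLocalRing.maximalIdeal A • (⊤ : Submodule A N) := by
  have := LinearMap.ker_tensorProductMk (R := A) (Q := N) (I := IsLocalRing.maximalIdeal A)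
  rw [← this, LinearMap.mem_ker]
  rfl

/-- Over a local ring: `N` finite free, `K ≤ N` finitely generated with
`K ⊓ 𝔪 N ≤ 𝔪 K`; then `N ⧸ K` is free. -/
theorem free_quotient_of_inf_le [Module.Finite A N] [Module.Free A N] (K : Submodule A N)
    (hK : K.FG)
    (h : K ⊓ IsLocalRing.maximalIdeal A • (⊤ : Submodule A N) ≤ IsLocalRing.maximalIdeal A • K) :
    Module.Free A (N ⧸ K) := by
  have : Module.Finite A K := Module.Finite.iff_fg.mpr hK
  refine Module.free_of_lTensor_residueField_injective K.subtype K.mkQ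
    (Submodule.mkQ_surjective _) (LinearMap.exact_subtype_mkQ K) ?_
  rw [injective_iff_map_eq_zero]
  intro z hz
  obtain ⟨y, rfl⟩ := TensorProduct.mk_surjective A K (IsLocalRing.ResidueField A)
    Ideal.Quotient.mk_surjective z
  rw [TensorProduct.mk_apply, LinearMap.lTensor_tmul] at hz
  have h1 : (y : N) ∈ IsLocalRing.maximalIdeal A • (⊤ : Submodule A N) :=
    (tmul_one_eq_zero_iff _).mp hz
  have h2 : (y : N) ∈ IsLocalRing.maximalIdeal A • K := h ⟨y.2, h1⟩
  have h3 : y ∈ IsLocalRing.maximalIdeal A • (⊤ : Submodule A K) :=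
    (Submodule.mem_smul_top_iff _ K y).mpr h2
  exact (tmul_one_eq_zero_iff _).mpr h3

end Local

end Groth.Agent.H8.DM

namespace Groth.Agent.H8.DM

section Global

variable {R : Type u} [CommRing R] {N : Type v} [AddCommGroup N] [Module R N]

/-- `N` finite projective, `K ≤ N` finitely generated with `K ⊓ 𝔫 N ≤ 𝔫 K` for every maximal
ideal `𝔫`; then `N ⧸ K` is projective. -/
theorem projective_quotient_of_forall_maximal [Module.Finite R N] [Module.Projective R N]
    (K : Submodule R N) (hK : K.FG)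
    (h : ∀ 𝔫 : Ideal R, 𝔫.IsMaximal → K ⊓ 𝔫 • (⊤ : Submodule R N) ≤ 𝔫 • K) :
    Module.Projective R (N ⧸ K) := by
  have : Module.FinitePresentation R N := Module.finitePresentation_of_projective R N
  have : Module.FinitePresentation R (N ⧸ K) :=
    Module.finitePresentation_of_surjective K.mkQ (Submodule.mkQ_surjective K)
      (by rw [Submodule.ker_mkQ]; exact hK)
  apply Module.projective_of_localization_maximal
  intro 𝔫 h𝔫
  have h𝔫p : 𝔫.IsPrime := h𝔫.isPrime
  have hfree : Module.Free (Localization.AtPrime 𝔫) (LocalizedModule 𝔫.primeCompl N) :=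
    Module.free_of_flat_of_isLocalRing
  have hKfg : (K.localized 𝔫.primeCompl).FG := by
    obtain ⟨s, rfl⟩ := hK
    rw [Submodule.localized, Submodule.localized'_span]
    exact Submodule.fg_span (s.finite_toSet.image _)
  have hcond : K.localized 𝔫.primeCompl ⊓
      IsLocalRing.maximalIdeal (Localization.AtPrime 𝔫) •
        (⊤ : Submodule (Localization.AtPrime 𝔫) (LocalizedModule 𝔫.primeCompl N)) ≤
      IsLocalRing.maximalIdeal (Localization.AtPrime 𝔫) • K.localized 𝔫.primeCompl := by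
    have h1 := (Submodule.localized'gi (Localization.AtPrime 𝔫) 𝔫.primeCompl
      (LocalizedModule.mkLinearMap 𝔫.primeCompl N)).gc.monotone_l (h 𝔫 h𝔫)
    rw [Submodule.localized'_inf, Submodule.localized'_smul, Submodule.localized'_smul,
      Submodule.localized'_top, Ideal.localized'_eq_map,
      Localization.AtPrime.map_eq_maximalIdeal] at h1
    exact h1
  have := free_quotient_of_inf_le (K.localized 𝔫.primeCompl) hKfg hcond
  have e := localizedQuotientEquiv 𝔫.primeCompl K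
  have : Module.Free (Localization 𝔫.primeCompl) (LocalizedModule 𝔫.primeCompl (N ⧸ K)) :=
    Module.Free.of_equiv e
  exact Module.Projective.of_free

end Global

end Groth.Agent.H8.DM

namespace Groth.Agent.H8.DM

section Quot

variable {A : Type u} [CommRing A] (I : Ideal A) {M : Type v} [AddCommGroup M] [Module A M]

/-- The image of an `A`-submodule of `M` in `M ⧸ I M`, as an `A ⧸ I`-submodule. -/
def imQ (Z : Submodule A M) : Submodule (A ⧸ I) (M ⧸ I • (⊤ : Submodule A M)) where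
  carrier := (I • (⊤ : Submodule A M)).mkQ '' Z
  add_mem' := by
    rintro _ _ ⟨x, hx, rfl⟩ ⟨y, hy, rfl⟩
    exact ⟨x + y, Z.add_mem hx hy, map_add _ _ _⟩
  zero_mem' := ⟨0, Z.zero_mem, map_zero _⟩
  smul_mem' := by
    rintro r _ ⟨x, hx, rfl⟩
    obtain ⟨a, rfl⟩ := Ideal.Quotient.mk_surjective r
    exact ⟨a • x, Z.smul_mem a hx, rfl⟩

variable {I}

theorem mem_imQ {Z : Submodule A M} {x : M ⧸ I • (⊤ : Submodule A M)} :
    x ∈ imQ I Z ↔ ∃ z ∈ Z, (I • (⊤ : Submodule A M)).mkQ z = x := Iff.rfl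

theorem mkQ_mem_imQ {Z : Submodule A M} {z : M} (hz : z ∈ Z) :
    (I • (⊤ : Submodule A M)).mkQ z ∈ imQ I Z := ⟨z, hz, rfl⟩

theorem mem_of_mkQ_mem_imQ {Z : Submodule A M} (hZ : I • (⊤ : Submodule A M) ≤ Z) {q : M}
    (h : (I • (⊤ : Submodule A M)).mkQ q ∈ imQ I Z) : q ∈ Z := by
  obtain ⟨z, hz, hzq⟩ := h
  have : z - q ∈ I • (⊤ : Submodule A M) := by
    rw [← Submodule.ker_mkQ (I • (⊤ : Submodule A M)), LinearMap.mem_ker, map_sub, hzq, sub_self]
  have h2 : q = z - (z - q) := by abel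
  rw [h2]
  exact Z.sub_mem hz (hZ this)

theorem span_image_eq_imQ (Z : Submodule A M) :
    Submodule.span (A ⧸ I) ((I • (⊤ : Submodule A M)).mkQ '' Z) = imQ I Z :=
  Submodule.span_eq (imQ I Z)

theorem imQ_fg {Z : Submodule A M} (hZ : Z.FG) : (imQ I Z).FG := by
  classical
  obtain ⟨s, rfl⟩ := hZ
  refine ⟨s.image (I • (⊤ : Submodule A M)).mkQ, le_antisymm ?_ ?_⟩
  · rw [Submodule.span_le]
    intro x hx
    rw [Finset.coe_image] at hx
    obtain ⟨y, hy, rfl⟩ := hx
    exact mkQ_mem_imQ (Submodule.subset_span hy)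
  · rintro _ ⟨z, hz, rfl⟩
    refine Submodule.span_induction ?_ ?_ ?_ ?_ hz
    · intro x hx
      exact Submodule.subset_span (by rw [Finset.coe_image]; exact ⟨x, hx, rfl⟩)
    · rw [map_zero]; exact Submodule.zero_mem _
    · intro x y _ _ hx hy
      rw [map_add]; exact Submodule.add_mem _ hx hy
    · intro a x _ hx
      have : (I • (⊤ : Submodule A M)).mkQ (a • x) =
          (Ideal.Quotient.mk I a) • (I • (⊤ : Submodule A M)).mkQ x := rfl
      rw [this]
      exact Submodule.smul_mem _ _ hx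

/-- Projectivity of `(M ⧸ I M) ⧸ (image of Q)` tested at maximal ideals of `A` containing `I`. -/
theorem projective_quotient_imQ
    [Module.Finite (A ⧸ I) (M ⧸ I • (⊤ : Submodule A M))]
    [Module.Projective (A ⧸ I) (M ⧸ I • (⊤ : Submodule A M))]
    (Q : Submodule A M) (hQ : Q.FG)
    (hmax : ∀ 𝔑 : Ideal A, 𝔑.IsMaximal → I ≤ 𝔑 →
      Q ⊓ 𝔑 • (⊤ : Submodule A M) ≤ 𝔑 • Q ⊔ I • (⊤ : Submodule A M)) :
    Module.Projective (A ⧸ I) ((M ⧸ I • (⊤ : Submodule A M)) ⧸ imQ I Q) := by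
  refine projective_quotient_of_forall_maximal (imQ I Q) (imQ_fg hQ) ?_
  intro 𝔫 h𝔫
  set 𝔑 : Ideal A := 𝔫.comap (Ideal.Quotient.mk I) with h𝔑
  have h𝔑max : 𝔑.IsMaximal := Ideal.comap_isMaximal_of_surjective _ Ideal.Quotient.mk_surjective
  have hI𝔑 : I ≤ 𝔑 := by
    intro a ha
    rw [h𝔑, Ideal.mem_comap, Ideal.Quotient.eq_zero_iff_mem.mpr ha]
    exact 𝔫.zero_mem
  have hI𝔑' : I • (⊤ : Submodule A M) ≤ 𝔑 • (⊤ : Submodule A M) :=
    Submodule.smul_mono hI𝔑 le_rfl
  -- α
  have hα : 𝔫 • (⊤ : Submodule (A ⧸ I) (M ⧸ I • (⊤ : Submodule A M))) ≤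
      imQ I (𝔑 • (⊤ : Submodule A M)) := by
    rw [Submodule.smul_le]
    intro r hr n _
    obtain ⟨a, rfl⟩ := Ideal.Quotient.mk_surjective r
    obtain ⟨m, rfl⟩ := Submodule.mkQ_surjective _ n
    exact ⟨a • m, Submodule.smul_mem_smul (by rw [h𝔑, Ideal.mem_comap]; exact hr)
      Submodule.mem_top, rfl⟩
  -- β
  have hβ : 𝔑 • Q ≤ Submodule.comap (I • (⊤ : Submodule A M)).mkQ
      ((𝔫 • imQ I Q).restrictScalars A) := by
    rw [Submodule.smul_le]
    intro a ha q hq
    rw [Submodule.mem_comap, Submodule.restrictScalars_mem]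
    have : (I • (⊤ : Submodule A M)).mkQ (a • q) =
        (Ideal.Quotient.mk I a) • (I • (⊤ : Submodule A M)).mkQ q := rfl
    rw [this]
    exact Submodule.smul_mem_smul (by rw [h𝔑, Ideal.mem_comap] at ha; exact ha) (mkQ_mem_imQ hq)
  rintro x ⟨⟨q, hq, rfl⟩, hx2⟩
  have h1 : q ∈ 𝔑 • (⊤ : Submodule A M) := mem_of_mkQ_mem_imQ hI𝔑' (hα hx2)
  have h2 : q ∈ 𝔑 • Q ⊔ I • (⊤ : Submodule A M) := hmax 𝔑 h𝔑max hI𝔑 ⟨hq, h1⟩
  obtain ⟨q', hq', i, hi, rfl⟩ := Submodule.mem_sup.mp h2
  have h3 : (I • (⊤ : Submodule A M)).mkQ i = 0 := by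
    rw [← LinearMap.mem_ker, Submodule.ker_mkQ]; exact hi
  rw [map_add, h3, add_zero]
  exact hβ hq'

end Quot

end Groth.Agent.H8.DM
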