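import Mathlib

/-! The ideal `W(𝔪)` of `W(k)` for `k` perfect of characteristic `p`, and maximal ideals of `W(k)`. -/

set_option autoImplicit false

universe u v

namespace Groth.Agent.H8.DM

open WittVector

variable {p : ℕ} [hp : Fact p.Prime] {k : Type u} [CommRing k]

/-- The ideal `W(𝔪)`. -/
noncomputable def WJ (p : ℕ) [Fact p.Prime] {k : Type u} [CommRing k] (𝔪 : Ideal k) :
    Ideal (WittVector p k) :=
  RingHom.ker (WittVector.map (p := p) (Ideal.Quotient.mk 𝔪))

theorem mem_WJ {𝔪 : Ideal k} {x : WittVector p k} : x ∈ WJ p 𝔪 ↔ ∀ n, x.coeff n ∈ 𝔪 := by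
  rw [WJ, RingHom.mem_ker]
  constructor
  · intro h n
    have := congrArg (fun w => w.coeff n) h
    simp only [WittVector.map_coeff, WittVector.zero_coeff] at this
    exact Ideal.Quotient.eq_zero_iff_mem.mp this
  · intro h
    ext n
    rw [WittVector.map_coeff, WittVector.zero_coeff]
    exact Ideal.Quotient.eq_zero_iff_mem.mpr (h n)

variable [CharP k p]

theorem frobenius_mem_WJ {𝔪 : Ideal k} {x : WittVector p k} (hx : x ∈ WJ p 𝔪) :
    frobenius x ∈ WJ p 𝔪 := by
  rw [mem_WJ] at hx ⊢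
  intro n
  rw [coeff_frobenius_charP]
  exact Ideal.pow_mem_of_mem _ (hx n) _ hp.out.pos

theorem mem_WJ_of_p_mul_mem {𝔪 : Ideal k} (hrad : ∀ c : k, c ^ p ∈ 𝔪 → c ∈ 𝔪)
    {a : WittVector p k} (h : (p : WittVector p k) * a ∈ WJ p 𝔪) : a ∈ WJ p 𝔪 := by
  rw [mem_WJ] at h ⊢
  intro n
  apply hrad
  have := h (n + 1)
  rwa [mul_comm, ← verschiebung_frobenius, verschiebung_coeff_succ, coeff_frobenius_charP] at this

variable [PerfectRing k p]

theorem frobeniusEquiv_symm_mem_WJ {𝔪 : Ideal k} (hrad : ∀ c : k, c ^ p ∈ 𝔪 → c ∈ 𝔪)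
    {x : WittVector p k} (hx : x ∈ WJ p 𝔪) : (frobeniusEquiv p k).symm x ∈ WJ p 𝔪 := by
  rw [mem_WJ] at hx ⊢
  intro n
  apply hrad
  have : (frobeniusEquiv p k).symm x = WittVector.map (_root_.frobeniusEquiv k p).symm x := rfl
  rw [this, WittVector.map_coeff]
  have h2 : ((_root_.frobeniusEquiv k p).symm (x.coeff n)) ^ p = x.coeff n :=
    frobenius_apply_frobeniusEquiv_symm k p _
  have h3 := hx n
  rw [← h2] at h3
  exact h3

/-- Elements with vanishing constant coefficient are multiples of `p`. -/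
theorem exists_p_mul_of_coeff_zero {x : WittVector p k} (h0 : x.coeff 0 = 0) :
    ∃ b, x = (p : WittVector p k) * b := by
  have h1 : verschiebung (x.shift 1) = x := by
    have := WittVector.eq_iterate_verschiebung (x := x) (n := 1) (by
      intro i hi
      obtain rfl : i = 0 := by omega
      exact h0)
    simpa using this.symm
  refine ⟨(frobeniusEquiv p k).symm (x.shift 1), ?_⟩
  have h2 : frobenius ((frobeniusEquiv p k).symm (x.shift 1)) = x.shift 1 :=
    (frobeniusEquiv p k).apply_symm_apply _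
  rw [mul_comm, ← verschiebung_frobenius, h2, h1]

theorem p_tors_free (x : WittVector p k) (h : (p : WittVector p k) * x = 0) : x = 0 := by
  have h1 : verschiebung (frobenius x) = 0 := by
    rw [verschiebung_frobenius, mul_comm]; exact h
  have h2 : frobenius x = 0 := by
    apply verschiebung_injective (p := p)
    rw [h1, map_zero]
  apply (frobenius_bijective p k).1
  rw [h2, map_zero]

section Maximal

variable (𝔑 : Ideal (WittVector p k)) [h𝔑 : 𝔑.IsPrime] (hp𝔑 : (p : WittVector p k) ∈ 𝔑)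

/-- The ideal of `k` attached to a prime ideal of `W(k)` containing `p`. -/
noncomputable def idealOf : Ideal k := 𝔑.map (WittVector.constantCoeff : WittVector p k →+* k)

theorem mem_idealOf {c : k} : c ∈ idealOf 𝔑 ↔ ∃ b ∈ 𝔑, b.coeff 0 = c := by
  rw [idealOf, Ideal.mem_map_iff_of_surjective _ (WittVector.constantCoeff_surjective p)]
  rfl

include hp𝔑 in
theorem mem_of_coeff_zero_mem {b : WittVector p k} (hb : b.coeff 0 ∈ idealOf 𝔑) : b ∈ 𝔑 := by
  obtain ⟨b', hb', h⟩ := (mem_idealOf 𝔑).mp hb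
  have h0 : (b - b').coeff 0 = 0 := by
    have : (WittVector.constantCoeff (b - b') : k) = 0 := by
      rw [map_sub]
      show b.coeff 0 - b'.coeff 0 = 0
      rw [h, sub_self]
    exact this
  obtain ⟨c, hc⟩ := exists_p_mul_of_coeff_zero h0
  have : b = b' + (p : WittVector p k) * c := by rw [← hc]; ring
  rw [this]
  exact 𝔑.add_mem hb' (𝔑.mul_mem_right _ hp𝔑)

include hp𝔑 in
theorem idealOf_rad (c : k) (hc : c ^ p ∈ idealOf 𝔑) : c ∈ idealOf 𝔑 := by
  have h1 : (teichmuller p c) ^ p ∈ 𝔑 := by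
    apply mem_of_coeff_zero_mem 𝔑 hp𝔑
    rw [← map_pow, teichmuller_coeff_zero]
    exact hc
  have h2 : teichmuller p c ∈ 𝔑 := h𝔑.mem_of_pow_mem _ h1
  exact (mem_idealOf 𝔑).mpr ⟨_, h2, teichmuller_coeff_zero p c⟩

include hp𝔑 in
theorem WJ_le : WJ p (idealOf 𝔑) ≤ 𝔑 := by
  intro x hx
  exact mem_of_coeff_zero_mem 𝔑 hp𝔑 ((mem_WJ.mp hx) 0)

theorem exists_decomp {a : WittVector p k} (ha : a ∈ 𝔑) :
    ∃ t ∈ WJ p (idealOf 𝔑), ∃ b, a = t + (p : WittVector p k) * b := by
  refine ⟨teichmuller p (a.coeff 0), ?_, ?_⟩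
  · rw [mem_WJ]
    intro n
    rcases Nat.eq_zero_or_pos n with rfl | hn
    · rw [teichmuller_coeff_zero]
      exact (mem_idealOf 𝔑).mpr ⟨a, ha, rfl⟩
    · rw [teichmuller_coeff_pos p _ n hn]
      exact Ideal.zero_mem _
  · have h0 : (a - teichmuller p (a.coeff 0)).coeff 0 = 0 := by
      have : (WittVector.constantCoeff (a - teichmuller p (a.coeff 0)) : k) = 0 := by
        rw [map_sub]
        show a.coeff 0 - (teichmuller p (a.coeff 0)).coeff 0 = 0
        rw [teichmuller_coeff_zero, sub_self]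
      exact this
    obtain ⟨b, hb⟩ := exists_p_mul_of_coeff_zero h0
    exact ⟨b, by rw [← hb]; ring⟩

end Maximal

end Groth.Agent.H8.DM
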