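import Mathlib
import Groth.Agent.Lib.Helper8.DM.LocProj
import Groth.Agent.Lib.Helper8.DM.WJ

/-! Dieudonné modules over a perfect ring: `M/VM` is projective. -/

set_option autoImplicit false

universe u v

namespace Groth.Agent.H8.DM

open WittVector

variable {p : ℕ} [hp : Fact p.Prime] {k : Type u} [CommRing k] [CharP k p] [PerfectRing k p]
variable {M : Type v} [AddCommGroup M] [Module (WittVector p k) M]
variable (F : M →ₛₗ[(WittVector.frobenius : WittVector p k →+* WittVector p k)] M)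
variable (V : M →ₛₗ[((WittVector.frobeniusEquiv p k).symm : WittVector p k →+* WittVector p k)] M)

/-- The image of `V`, a `W(k)`-submodule. -/
def rangeV : Submodule (WittVector p k) M where
  carrier := Set.range V
  add_mem' := by
    rintro _ _ ⟨x, rfl⟩ ⟨y, rfl⟩
    exact ⟨x + y, map_add _ _ _⟩
  zero_mem' := ⟨0, map_zero _⟩
  smul_mem' := by
    rintro a _ ⟨x, rfl⟩
    refine ⟨frobenius a • x, ?_⟩
    rw [map_smulₛₗ]
    congr 1
    exact (frobeniusEquiv p k).symm_apply_apply a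

theorem mem_rangeV {x : M} : x ∈ rangeV V ↔ ∃ y, V y = x := Iff.rfl

theorem coe_rangeV : (rangeV V : Set M) = Set.range V := rfl

theorem pM_iff (x : M) :
    x ∈ Ideal.span {(p : WittVector p k)} • (⊤ : Submodule (WittVector p k) M) ↔
      ∃ y : M, x = (p : WittVector p k) • y := by
  rw [Submodule.ideal_span_singleton_smul, Submodule.mem_smul_pointwise_iff_exists]
  constructor
  · rintro ⟨y, _, rfl⟩; exact ⟨y, rfl⟩
  · rintro ⟨y, rfl⟩; exact ⟨y, trivial, rfl⟩

theorem F_mem {𝔪 : Ideal k} {x : M} (hx : x ∈ WJ p 𝔪 • (⊤ : Submodule (WittVector p k) M)) :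
    F x ∈ WJ p 𝔪 • (⊤ : Submodule (WittVector p k) M) := by
  refine Submodule.smul_induction_on hx ?_ ?_
  · intro a ha m _
    rw [map_smulₛₗ]
    exact Submodule.smul_mem_smul (frobenius_mem_WJ ha) Submodule.mem_top
  · intro x y hx hy
    rw [map_add]; exact Submodule.add_mem _ hx hy

theorem V_mem {𝔪 : Ideal k} (hrad : ∀ c : k, c ^ p ∈ 𝔪 → c ∈ 𝔪) {x : M}
    (hx : x ∈ WJ p 𝔪 • (⊤ : Submodule (WittVector p k) M)) :
    V x ∈ WJ p 𝔪 • rangeV V := by
  refine Submodule.smul_induction_on hx ?_ ?_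
  · intro a ha m _
    rw [map_smulₛₗ]
    exact Submodule.smul_mem_smul (frobeniusEquiv_symm_mem_WJ hrad ha) ⟨m, rfl⟩
  · intro x y hx hy
    rw [map_add]; exact Submodule.add_mem _ hx hy

theorem rangeV_fg [Module.Finite (WittVector p k) M] : (rangeV V).FG := by
  classical
  obtain ⟨s, hs⟩ := (Module.Finite.fg_top : (⊤ : Submodule (WittVector p k) M).FG)
  refine ⟨s.image V, le_antisymm ?_ ?_⟩
  · rw [Submodule.span_le]
    intro x hx
    rw [Finset.coe_image] at hx
    obtain ⟨y, _, rfl⟩ := hx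
    exact ⟨y, rfl⟩
  · rintro _ ⟨y, rfl⟩
    have hy : y ∈ Submodule.span (WittVector p k) (s : Set M) := by rw [hs]; trivial
    refine Submodule.span_induction ?_ ?_ ?_ ?_ hy
    · intro x hx
      exact Submodule.subset_span (by rw [Finset.coe_image]; exact ⟨x, hx, rfl⟩)
    · rw [map_zero]; exact Submodule.zero_mem _
    · intro x y _ _ hx hy
      rw [map_add]; exact Submodule.add_mem _ hx hy
    · intro a x _ hx
      rw [map_smulₛₗ]
      exact Submodule.smul_mem _ _ hx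

variable (hFV : ∀ m : M, F (V m) = (p : WittVector p k) • m)
variable (hVF : ∀ m : M, V (F m) = (p : WittVector p k) • m)

include hFV hVF in
/-- The key condition at a maximal ideal. -/
theorem rangeV_inf_le
    (hT : ∀ 𝔪 : Ideal k, (∀ c : k, c ^ p ∈ 𝔪 → c ∈ 𝔪) → ∀ z : M,
      (p : WittVector p k) • z ∈ WJ p 𝔪 • (⊤ : Submodule (WittVector p k) M) →
      z ∈ WJ p 𝔪 • (⊤ : Submodule (WittVector p k) M) ⊔
        Ideal.span {(p : WittVector p k)} • (⊤ : Submodule (WittVector p k) M))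
    (𝔑 : Ideal (WittVector p k)) [𝔑.IsPrime] (hp𝔑 : Ideal.span {(p : WittVector p k)} ≤ 𝔑) :
    rangeV V ⊓ 𝔑 • (⊤ : Submodule (WittVector p k) M) ≤
      𝔑 • rangeV V ⊔ Ideal.span {(p : WittVector p k)} • (⊤ : Submodule (WittVector p k) M) := by
  have hp𝔑' : (p : WittVector p k) ∈ 𝔑 := hp𝔑 (Ideal.mem_span_singleton_self _)
  have hrad := idealOf_rad 𝔑 hp𝔑'
  have h𝔑le : 𝔑 • (⊤ : Submodule (WittVector p k) M) ≤
      WJ p (idealOf 𝔑) • (⊤ : Submodule (WittVector p k) M) ⊔
        Ideal.span {(p : WittVector p k)} • (⊤ : Submodule (WittVector p k) M) := by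
    rw [Submodule.smul_le]
    intro a ha m _
    obtain ⟨t, ht, b, rfl⟩ := exists_decomp 𝔑 ha
    rw [add_smul]
    refine Submodule.add_mem_sup (Submodule.smul_mem_smul ht Submodule.mem_top) ?_
    rw [mul_smul]
    exact Submodule.smul_mem_smul (Ideal.mem_span_singleton_self _) Submodule.mem_top
  rintro x ⟨⟨y, rfl⟩, hx2⟩
  obtain ⟨w, hw, e, he, hwe⟩ := Submodule.mem_sup.mp (h𝔑le hx2)
  obtain ⟨m₁, rfl⟩ := (pM_iff _).mp he
  -- apply F
  have h1 : (p : WittVector p k) • (y - F m₁) = F w := by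
    have : F (V y) = F (w + (p : WittVector p k) • m₁) := by rw [hwe]
    rw [hFV, map_add, map_smulₛₗ, map_natCast] at this
    rw [smul_sub, this]; abel
  have h2 := hT (idealOf 𝔑) hrad (y - F m₁) (by rw [h1]; exact F_mem F hw)
  obtain ⟨u, hu, e₂, he₂, hue⟩ := Submodule.mem_sup.mp h2
  obtain ⟨m₂, rfl⟩ := (pM_iff _).mp he₂
  have h3 : V y = V u + ((p : WittVector p k) • m₁ + (p : WittVector p k) • V m₂) := by
    have : y = F m₁ + (u + (p : WittVector p k) • m₂) := by rw [hue]; abel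
    conv_lhs => rw [this]
    rw [map_add, map_add, hVF, map_smulₛₗ, map_natCast]
    abel
  rw [h3]
  refine Submodule.add_mem_sup ?_ ?_
  · exact Submodule.smul_mono (WJ_le 𝔑 hp𝔑') le_rfl (V_mem V hrad hu)
  · rw [← smul_add]
    exact (pM_iff _).mpr ⟨_, rfl⟩

end Groth.Agent.H8.DM
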