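import Mathlib
import Groth.Agent.Lib.Helper8.DM.Dieu
import Groth.Agent.Lib.Helper8.WProj.Witt

/-! The torsion condition `hT` for projective (truncated) modules; assembly. -/

set_option autoImplicit false

universe u v w

namespace Groth.Agent.H8.DM

open WittVector

section General

variable {A : Type u} [CommRing A] (J I : Ideal A)

/-- Transfer of the torsion condition along a split injection. -/
theorem hT_of_split {M : Type v} {X : Type w} [AddCommGroup M] [Module A M] [AddCommGroup X]
    [Module A X] (i : M →ₗ[A] X) (s : X →ₗ[A] M) (hsi : ∀ m, s (i m) = m) (a : A)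
    (hX : ∀ z : X, a • z ∈ J • (⊤ : Submodule A X) →
      z ∈ J • (⊤ : Submodule A X) ⊔ I • (⊤ : Submodule A X))
    (z : M) (hz : a • z ∈ J • (⊤ : Submodule A M)) :
    z ∈ J • (⊤ : Submodule A M) ⊔ I • (⊤ : Submodule A M) := by
  have h1 : a • i z ∈ J • (⊤ : Submodule A X) := by
    rw [← map_smul]
    exact Submodule.smul_top_le_comap_smul_top J i hz
  have h2 := hX _ h1
  obtain ⟨x, hx, y, hy, hxy⟩ := Submodule.mem_sup.mp h2
  have : z = s x + s y := by rw [← map_add, hxy, hsi]
  rw [this]
  exact Submodule.add_mem_sup (Submodule.smul_top_le_comap_smul_top J s hx)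
    (Submodule.smul_top_le_comap_smul_top I s hy)

/-- Membership in `J • ⊤` for functions into a quotient of `A`. -/
theorem mem_smul_top_pi_quot {ι : Type*} [Fintype ι] [DecidableEq ι] (K : Ideal A)
    (x : ι → A ⧸ K) :
    x ∈ J • (⊤ : Submodule A (ι → A ⧸ K)) ↔ ∀ j, ∃ a ∈ J, Ideal.Quotient.mk K a = x j := by
  constructor
  · intro h
    refine Submodule.smul_induction_on h ?_ ?_
    · intro a ha y _ j
      obtain ⟨b, hb⟩ := Ideal.Quotient.mk_surjective (y j)
      refine ⟨a * b, J.mul_mem_right _ ha, ?_⟩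
      rw [map_mul, hb]
      rfl
    · intro y z hy hz j
      obtain ⟨a, ha, h1⟩ := hy j
      obtain ⟨b, hb, h2⟩ := hz j
      exact ⟨a + b, J.add_mem ha hb, by rw [map_add, h1, h2]; rfl⟩
  · intro h
    choose a ha hax using h
    have : x = ∑ j, a j • (Pi.single j 1 : ι → A ⧸ K) := by
      funext j
      rw [Finset.sum_apply]
      simp only [Pi.smul_apply, Pi.single_apply]
      rw [Finset.sum_eq_single j]
      · rw [if_pos rfl, ← hax j]
        rw [Algebra.smul_def, mul_one]
        rfl
      · intro b _ hb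
        rw [if_neg hb.symm, smul_zero]
      · intro h; exact absurd (Finset.mem_univ j) h
    rw [this]
    exact Submodule.sum_mem _ fun j _ => Submodule.smul_mem_smul (ha j) Submodule.mem_top

end General

section Witt

variable {p : ℕ} [hp : Fact p.Prime] {k : Type u} [CommRing k] [CharP k p] [PerfectRing k p]

theorem hT_pi {r : ℕ} {𝔪 : Ideal k} (hrad : ∀ c : k, c ^ p ∈ 𝔪 → c ∈ 𝔪)
    (z : Fin r → WittVector p k)
    (hz : (p : WittVector p k) • z ∈ WJ p 𝔪 • (⊤ : Submodule (WittVector p k) (Fin r → WittVector p k))) :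
    z ∈ WJ p 𝔪 • (⊤ : Submodule (WittVector p k) (Fin r → WittVector p k)) ⊔
      Ideal.span {(p : WittVector p k)} • (⊤ : Submodule (WittVector p k) (Fin r → WittVector p k)) := by
  refine Submodule.mem_sup_left ?_
  rw [Groth.Agent.H8.WProj.mem_smul_top_pi] at hz ⊢
  intro j
  exact mem_WJ_of_p_mul_mem hrad (hz j)

theorem hT_pi_quot {r n : ℕ} (hn : 2 ≤ n) {𝔪 : Ideal k} (hrad : ∀ c : k, c ^ p ∈ 𝔪 → c ∈ 𝔪)
    (z : Fin r → WittVector p k ⧸ Ideal.span {(p : WittVector p k) ^ n})
    (hz : (p : WittVector p k) • z ∈ WJ p 𝔪 • (⊤ : Submodule (WittVector p k)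
      (Fin r → WittVector p k ⧸ Ideal.span {(p : WittVector p k) ^ n}))) :
    z ∈ WJ p 𝔪 • (⊤ : Submodule (WittVector p k)
        (Fin r → WittVector p k ⧸ Ideal.span {(p : WittVector p k) ^ n})) ⊔
      Ideal.span {(p : WittVector p k)} • (⊤ : Submodule (WittVector p k)
        (Fin r → WittVector p k ⧸ Ideal.span {(p : WittVector p k) ^ n})) := by
  rw [mem_smul_top_pi_quot] at hz
  choose zt hzt using fun j => Ideal.Quotient.mk_surjective (z j)
  have key : ∀ j, ∃ t ∈ WJ p 𝔪, ∃ c, zt j = t + (p : WittVector p k) * c := by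
    intro j
    obtain ⟨w, hw, hwz⟩ := hz j
    have h1 : Ideal.Quotient.mk (Ideal.span {(p : WittVector p k) ^ n}) (w - (p : WittVector p k) * zt j) = 0 := by
      rw [map_sub, hwz, map_mul, hzt j, sub_eq_zero]
      rfl
    rw [Ideal.Quotient.eq_zero_iff_mem, Ideal.mem_span_singleton'] at h1
    obtain ⟨c, hc⟩ := h1
    have hpn : (p : WittVector p k) ^ n = (p : WittVector p k) * ((p : WittVector p k) * (p : WittVector p k) ^ (n - 2)) := by
      rw [← pow_succ', ← pow_succ']; congr 1; omega
    have h2 : (p : WittVector p k) * (zt j + c * ((p : WittVector p k) * (p : WittVector p k) ^ (n - 2))) = w := by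
      have : w = (p : WittVector p k) * zt j + c * (p : WittVector p k) ^ n := by rw [hc]; ring
      rw [this, hpn]; ring
    have h3 : zt j + c * ((p : WittVector p k) * (p : WittVector p k) ^ (n - 2)) ∈ WJ p 𝔪 :=
      mem_WJ_of_p_mul_mem hrad (by rw [h2]; exact hw)
    refine ⟨_, h3, -(c * (p : WittVector p k) ^ (n - 2)), ?_⟩
    ring
  choose t ht c hc using key
  have hzdec : z = (fun j => Ideal.Quotient.mk _ (t j)) +
      (p : WittVector p k) • (fun j => Ideal.Quotient.mk (Ideal.span {(p : WittVector p k) ^ n}) (c j)) := by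
    funext j
    rw [Pi.add_apply, Pi.smul_apply, ← hzt j, hc j, map_add, map_mul]
    rfl
  rw [hzdec]
  refine Submodule.add_mem_sup ?_ ?_
  · rw [mem_smul_top_pi_quot]
    intro j
    exact ⟨t j, ht j, rfl⟩
  · exact Submodule.smul_mem_smul (Ideal.mem_span_singleton_self _) Submodule.mem_top

end Witt

end Groth.Agent.H8.DM

namespace Groth.Agent.H8.DM

open WittVector

section Assembly

variable {p : ℕ} [hp : Fact p.Prime] {k : Type u} [CommRing k] [CharP k p] [PerfectRing k p]
variable {M : Type v} [AddCommGroup M] [Module (WittVector p k) M]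
variable (F : M →ₛₗ[(WittVector.frobenius : WittVector p k →+* WittVector p k)] M)
variable (V : M →ₛₗ[((WittVector.frobeniusEquiv p k).symm : WittVector p k →+* WittVector p k)] M)
variable (hFV : ∀ m : M, F (V m) = (p : WittVector p k) • m)
variable (hVF : ∀ m : M, V (F m) = (p : WittVector p k) • m)

include hFV hVF in
theorem projective_of_hT
    [Module.Finite (WittVector p k ⧸ Ideal.span {(p : WittVector p k)})
      (M ⧸ Ideal.span {(p : WittVector p k)} • (⊤ : Submodule (WittVector p k) M))]
    [Module.Projective (WittVector p k ⧸ Ideal.span {(p : WittVector p k)})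
      (M ⧸ Ideal.span {(p : WittVector p k)} • (⊤ : Submodule (WittVector p k) M))]
    (hfg : (rangeV V).FG)
    (hT : ∀ 𝔪 : Ideal k, (∀ c : k, c ^ p ∈ 𝔪 → c ∈ 𝔪) → ∀ z : M,
      (p : WittVector p k) • z ∈ WJ p 𝔪 • (⊤ : Submodule (WittVector p k) M) →
      z ∈ WJ p 𝔪 • (⊤ : Submodule (WittVector p k) M) ⊔
        Ideal.span {(p : WittVector p k)} • (⊤ : Submodule (WittVector p k) M)) :
    Module.Projective (WittVector p k ⧸ Ideal.span {(p : WittVector p k)})
      ((M ⧸ (Ideal.span {(p : WittVector p k)} • (⊤ : Submodule (WittVector p k) M))) ⧸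
        Submodule.span (WittVector p k ⧸ Ideal.span {(p : WittVector p k)})
          (Set.range fun m : M =>
            (Ideal.span {(p : WittVector p k)} • (⊤ : Submodule (WittVector p k) M)).mkQ (V m))) := by
  have hK : Submodule.span (WittVector p k ⧸ Ideal.span {(p : WittVector p k)})
      (Set.range fun m : M =>
        (Ideal.span {(p : WittVector p k)} • (⊤ : Submodule (WittVector p k) M)).mkQ (V m)) =
      imQ (Ideal.span {(p : WittVector p k)}) (rangeV V) := by
    rw [← span_image_eq_imQ, coe_rangeV, ← Set.range_comp]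
    rfl
  rw [hK]
  refine projective_quotient_imQ (rangeV V) hfg ?_
  intro 𝔑 h𝔑 hI
  have := h𝔑.isPrime
  exact rangeV_inf_le F V hFV hVF hT 𝔑 hI

include hFV hVF in
/-- `M/VM` is projective for a projective Dieudonné module over a perfect ring. -/
theorem projective_MV [Module.Finite (WittVector p k) M] [Module.Projective (WittVector p k) M] :
    Module.Projective (WittVector p k ⧸ Ideal.span {(p : WittVector p k)})
      ((M ⧸ (Ideal.span {(p : WittVector p k)} • (⊤ : Submodule (WittVector p k) M))) ⧸
        Submodule.span (WittVector p k ⧸ Ideal.span {(p : WittVector p k)})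
          (Set.range fun m : M =>
            (Ideal.span {(p : WittVector p k)} • (⊤ : Submodule (WittVector p k) M)).mkQ (V m))) := by
  have := Groth.Agent.H8.WProj.projective_quotient_of_projective
    (Ideal.span {(p : WittVector p k)}) (P := M)
  refine projective_of_hT F V hFV hVF (rangeV_fg V) ?_
  intro 𝔪 hrad z hz
  obtain ⟨r, f, g, -, -, hfg⟩ := Module.Finite.exists_comp_eq_id_of_projective (WittVector p k) M
  exact hT_of_split _ _ g f (fun m => LinearMap.congr_fun hfg m) _ (hT_pi hrad) z hz

end Assembly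

end Groth.Agent.H8.DM
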