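import Mathlib
import Groth.Agent.Lib.Helper8.DM.HT

/-! Level-one exactness for projective Dieudonné modules over a perfect ring. -/

set_option autoImplicit false

universe u v

namespace Groth.Agent.H8.DM

open WittVector

variable {p : ℕ} [hp : Fact p.Prime] {k : Type u} [CommRing k] [CharP k p] [PerfectRing k p]
variable {M : Type v} [AddCommGroup M] [Module (WittVector p k) M]

theorem smul_p_inj [Module.Projective (WittVector p k) M] (z : M)
    (hz : (p : WittVector p k) • z = 0) : z = 0 := by
  obtain ⟨s, hs⟩ := Module.projective_def'.mp ‹Module.Projective (WittVector p k) M›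
  have h1 : s z = 0 := by
    refine Finsupp.ext fun x => ?_
    have : s ((p : WittVector p k) • z) = 0 := by rw [hz, map_zero]
    rw [map_smul] at this
    have := DFunLike.congr_fun this x
    rw [Finsupp.smul_apply, smul_eq_mul, Finsupp.zero_apply] at this
    rw [Finsupp.zero_apply]
    exact p_tors_free _ this
  have := LinearMap.congr_fun hs z
  rw [LinearMap.comp_apply, h1, map_zero] at this
  exact this.symm

variable (F : M →ₛₗ[(WittVector.frobenius : WittVector p k →+* WittVector p k)] M)
variable (V : M →ₛₗ[((WittVector.frobeniusEquiv p k).symm : WittVector p k →+* WittVector p k)] M)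
variable (hFV : ∀ m : M, F (V m) = (p : WittVector p k) • m)
variable (hVF : ∀ m : M, V (F m) = (p : WittVector p k) • m)

include hFV hVF in
theorem comap_F_eq [Module.Projective (WittVector p k) M] :
    (Ideal.span {(p : WittVector p k)} • (⊤ : Submodule (WittVector p k) M)).comap F =
      Submodule.span (WittVector p k) (Set.range V) ⊔
        Ideal.span {(p : WittVector p k)} • (⊤ : Submodule (WittVector p k) M) := by
  ext m
  rw [Submodule.mem_comap]
  constructor
  · intro hm
    obtain ⟨m', hm'⟩ := (pM_iff _).mp hm
    have h0 : F (m - V m') = 0 := by rw [map_sub, hFV, hm', sub_self]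
    have h1 : (p : WittVector p k) • (m - V m') = 0 := by rw [← hVF, h0, map_zero]
    have h2 := smul_p_inj _ h1
    have : m = V m' := sub_eq_zero.mp h2
    rw [this]
    exact Submodule.mem_sup_left (Submodule.subset_span ⟨m', rfl⟩)
  · intro hm
    obtain ⟨a, ha, b, hb, rfl⟩ := Submodule.mem_sup.mp hm
    rw [map_add]
    refine Submodule.add_mem _ ?_ ?_
    · have hle : Submodule.span (WittVector p k) (Set.range V) ≤
          (Ideal.span {(p : WittVector p k)} • (⊤ : Submodule (WittVector p k) M)).comap F := by
        apply Submodule.span_le.mpr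
        rintro _ ⟨y, rfl⟩
        rw [SetLike.mem_coe, Submodule.mem_comap, hFV]; exact (pM_iff _).mpr ⟨y, rfl⟩
      exact hle ha
    · obtain ⟨y, rfl⟩ := (pM_iff _).mp hb
      rw [map_smulₛₗ, map_natCast]
      exact (pM_iff _).mpr ⟨_, rfl⟩

include hFV hVF in
theorem comap_V_eq [Module.Projective (WittVector p k) M] :
    (Ideal.span {(p : WittVector p k)} • (⊤ : Submodule (WittVector p k) M)).comap V =
      Submodule.span (WittVector p k) (Set.range F) ⊔
        Ideal.span {(p : WittVector p k)} • (⊤ : Submodule (WittVector p k) M) := by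
  ext m
  rw [Submodule.mem_comap]
  constructor
  · intro hm
    obtain ⟨m', hm'⟩ := (pM_iff _).mp hm
    have h0 : V (m - F m') = 0 := by rw [map_sub, hVF, hm', sub_self]
    have h1 : (p : WittVector p k) • (m - F m') = 0 := by rw [← hFV, h0, map_zero]
    have h2 := smul_p_inj _ h1
    have : m = F m' := sub_eq_zero.mp h2
    rw [this]
    exact Submodule.mem_sup_left (Submodule.subset_span ⟨m', rfl⟩)
  · intro hm
    obtain ⟨a, ha, b, hb, rfl⟩ := Submodule.mem_sup.mp hm
    rw [map_add]
    refine Submodule.add_mem _ ?_ ?_
    · have hle : Submodule.span (WittVector p k) (Set.range F) ≤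
          (Ideal.span {(p : WittVector p k)} • (⊤ : Submodule (WittVector p k) M)).comap V := by
        apply Submodule.span_le.mpr
        rintro _ ⟨y, rfl⟩
        rw [SetLike.mem_coe, Submodule.mem_comap, hVF]; exact (pM_iff _).mpr ⟨y, rfl⟩
      exact hle ha
    · obtain ⟨y, rfl⟩ := (pM_iff _).mp hb
      rw [map_smulₛₗ, map_natCast]
      exact (pM_iff _).mpr ⟨_, rfl⟩

end Groth.Agent.H8.DM
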