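import Mathlib
import Groth.Agent.Lib.Helper8.Disp
import Groth.Agent.Lib.Helper8.DM.Exact
import Groth.Agent.Lib.Helper8.WProj.Idem
import Groth.Agent.Lib.Helper8.Witt.Complete

/-! From a projective Dieudonné module over a perfect ring to a 3n-display. -/

set_option autoImplicit false

universe u v

namespace Groth.Agent.H8.DM

open WittVector W4c1extbt610 Groth.Agent.H8.Disp

variable {p : ℕ} [hp : Fact p.Prime] {k : Type u} [CommRing k] [CharP k p] [PerfectRing k p]
variable {M : Type v} [AddCommGroup M] [Module (WittVector p k) M]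
variable (F : M →ₛₗ[(WittVector.frobenius : WittVector p k →+* WittVector p k)] M)
variable (V : M →ₛₗ[((WittVector.frobeniusEquiv p k).symm : WittVector p k →+* WittVector p k)] M)
variable (hFV : ∀ m : M, F (V m) = (p : WittVector p k) • m)
variable (hVF : ∀ m : M, V (F m) = (p : WittVector p k) • m)

theorem verschiebung_eq (w : WittVector p k) :
    verschiebung w = (frobeniusEquiv p k).symm w * (p : WittVector p k) := by
  rw [← verschiebung_frobenius]
  congr 1
  exact ((frobeniusEquiv p k).apply_symm_apply w).symm

theorem IV_eq : IV p k = Ideal.span {(p : WittVector p k)} := by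
  ext a
  rw [mem_IV_iff, Ideal.mem_span_singleton']
  constructor
  · rintro ⟨w, rfl⟩
    exact ⟨_, (verschiebung_eq w).symm⟩
  · rintro ⟨b, rfl⟩
    exact ⟨frobenius b, verschiebung_frobenius b⟩

theorem isAdicComplete_IV : IsAdicComplete (IV p k) (WittVector p k) := by
  rw [IV_eq]
  have h0 : Ideal.span {(p : k)} = ⊥ := by
    rw [CharP.cast_eq_zero, Ideal.span_singleton_eq_bot]
  have : IsAdicComplete (Ideal.span {(p : k)}) k := by rw [h0]; infer_instance
  exact Groth.Agent.H8.WittComplete.isAdicComplete_p

include hFV in
theorem V_injective [Module.Projective (WittVector p k) M] : Function.Injective V := by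
  intro y y' h
  have h1 : (p : WittVector p k) • (y - y') = 0 := by
    rw [← hFV, map_sub, h, sub_self, map_zero]
  exact sub_eq_zero.mp (smul_p_inj _ h1)

theorem span_range_eq_imQ :
    Submodule.span (WittVector p k ⧸ Ideal.span {(p : WittVector p k)})
      (Set.range fun m : M =>
        (Ideal.span {(p : WittVector p k)} • (⊤ : Submodule (WittVector p k) M)).mkQ (V m)) =
      imQ (Ideal.span {(p : WittVector p k)}) (rangeV V) := by
  rw [← span_image_eq_imQ, coe_rangeV, ← Set.range_comp]
  rfl

include hFV hVF in
theorem exists_compl [Module.Finite (WittVector p k) M] [Module.Projective (WittVector p k) M] :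
    ∃ C : Submodule (WittVector p k) M, rangeV V ⊔ C = ⊤ ∧
      rangeV V ⊓ C = Ideal.span {(p : WittVector p k)} • (⊤ : Submodule (WittVector p k) M) := by
  have hproj := projective_MV F V hFV hVF
  rw [span_range_eq_imQ] at hproj
  set K := imQ (Ideal.span {(p : WittVector p k)}) (rangeV V) with hK
  obtain ⟨s, hs⟩ := Module.projective_lifting_property K.mkQ LinearMap.id (Submodule.mkQ_surjective K)
  have hs' : ∀ y, K.mkQ (s y) = y := fun y => LinearMap.congr_fun hs y
  refine ⟨Submodule.comap (Ideal.span {(p : WittVector p k)} • (⊤ : Submodule (WittVector p k) M)).mkQ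
    ((LinearMap.range s).restrictScalars (WittVector p k)), ?_, ?_⟩
  · rw [eq_top_iff]
    intro m _
    set n := (Ideal.span {(p : WittVector p k)} • (⊤ : Submodule (WittVector p k) M)).mkQ m with hn
    have h1 : n - s (K.mkQ n) ∈ K := by
      have : K.mkQ (n - s (K.mkQ n)) = 0 := by rw [map_sub, hs', sub_self]
      rwa [← LinearMap.mem_ker, Submodule.ker_mkQ] at this
    obtain ⟨q, hq, hqn⟩ := mem_imQ.mp h1
    have h2 : m = q + (m - q) := by abel
    rw [h2]
    refine Submodule.add_mem_sup hq ?_
    rw [Submodule.mem_comap, Submodule.restrictScalars_mem, map_sub, hqn, ← hn]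
    exact ⟨K.mkQ n, by abel⟩
  · apply le_antisymm
    · rintro m ⟨hmQ, hmC⟩
      rw [SetLike.mem_coe, Submodule.mem_comap, Submodule.restrictScalars_mem] at hmC
      obtain ⟨y, hy⟩ := hmC
      have h1 : (Ideal.span {(p : WittVector p k)} • (⊤ : Submodule (WittVector p k) M)).mkQ m ∈ K :=
        mkQ_mem_imQ hmQ
      have h2 : y = 0 := by
        rw [← hs' y, hy, ← LinearMap.mem_ker, Submodule.ker_mkQ]
        exact h1
      rw [h2, map_zero] at hy
      rw [← Submodule.ker_mkQ (Ideal.span {(p : WittVector p k)} • (⊤ : Submodule (WittVector p k) M)),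
        LinearMap.mem_ker]
      exact hy.symm
    · intro m hm
      obtain ⟨y, rfl⟩ := (pM_iff _).mp hm
      refine ⟨⟨F y, hVF y⟩, ?_⟩
      rw [SetLike.mem_coe, Submodule.mem_comap, Submodule.restrictScalars_mem]
      have : (Ideal.span {(p : WittVector p k)} • (⊤ : Submodule (WittVector p k) M)).mkQ
          ((p : WittVector p k) • y) = 0 := by
        rw [← LinearMap.mem_ker, Submodule.ker_mkQ]; exact hm
      rw [this]
      exact Submodule.zero_mem _

section Vinv

variable [Module.Projective (WittVector p k) M]

/-- The operator `V⁻¹` on the image of `V`. -/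
noncomputable def VinvOf :
    rangeV V →ₛₗ[(WittVector.frobenius : WittVector p k →+* WittVector p k)] M where
  toFun q := Classical.choose q.2
  map_add' q q' := by
    apply V_injective F V hFV
    rw [map_add, Classical.choose_spec q.2, Classical.choose_spec q'.2,
      Classical.choose_spec (q + q').2]
    rfl
  map_smul' a q := by
    apply V_injective F V hFV
    rw [map_smulₛₗ, Classical.choose_spec q.2, Classical.choose_spec (a • q).2]
    have : ((frobeniusEquiv p k).symm : WittVector p k →+* WittVector p k) (frobenius a) = a :=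
      (frobeniusEquiv p k).symm_apply_apply a
    rw [this]
    rfl

theorem V_VinvOf (q : rangeV V) : V (VinvOf F V hFV q) = q := Classical.choose_spec q.2

theorem VinvOf_V (m : M) (h : V m ∈ rangeV V) : VinvOf F V hFV ⟨V m, h⟩ = m := by
  apply V_injective F V hFV
  rw [V_VinvOf]

end Vinv

include hFV hVF in
theorem exists_display [Module.Finite (WittVector p k) M] [Module.Projective (WittVector p k) M] :
    ∃ D : Display3n p k M, D.F = F ∧ (∀ x : M, x ∈ D.Q ↔ x ∈ Set.range V) ∧
      ∀ (m : M) (h : V m ∈ D.Q), D.Vinv ⟨V m, h⟩ = m := by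
  have hIV : IV p k • (⊤ : Submodule (WittVector p k) M) ≤ rangeV V := by
    rw [IV_eq]
    intro m hm
    obtain ⟨y, rfl⟩ := (pM_iff _).mp hm
    exact ⟨F y, hVF y⟩
  have hnormal : ∃ L T : Submodule (WittVector p k) M, IsCompl L T ∧ rangeV V = L ⊔ IV p k • T := by
    obtain ⟨C, hC1, hC2⟩ := exists_compl F V hFV hVF
    have := isAdicComplete_IV (p := p) (k := k)
    exact Groth.Agent.H8.WProj.exists_normal_decomposition (IV p k) (rangeV V) C hC1
      (by rw [hC2, IV_eq])
  refine ⟨{ Q := rangeV V
            F := F
            Vinv := VinvOf F V hFV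
            finite := inferInstance
            projective := inferInstance
            IV_smul_le := hIV
            exists_normal := hnormal
            span_range_Vinv := ?_
            Vinv_verschiebung_smul := ?_ }, rfl, fun x => Iff.rfl, ?_⟩
  · rw [eq_top_iff]
    intro m _
    exact Submodule.subset_span ⟨⟨V m, m, rfl⟩, VinvOf_V F V hFV m _⟩
  · intro w x
    apply V_injective F V hFV
    rw [V_VinvOf, map_smulₛₗ, hVF, smul_smul]
    show verschiebung w • x = _
    rw [verschiebung_eq w]
    rfl
  · intro m h
    exact VinvOf_V F V hFV m h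

end Groth.Agent.H8.DM
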