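import Mathlib

/-! `M` projective over `A ⧸ K`, `K ≤ I` ⟹ `M ⧸ I M` projective over `A ⧸ I`. -/

set_option autoImplicit false

universe u v

namespace Groth.Agent.H8.DM

variable {A : Type u} [CommRing A] (K I : Ideal A) (hKI : K ≤ I)
variable {M : Type v} [AddCommGroup M] [Module A M] [Module (A ⧸ K) M] [IsScalarTower A (A ⧸ K) M]

include hKI in
theorem projective_quotient_of_tower [Module.Finite (A ⧸ K) M] [Module.Projective (A ⧸ K) M] :
    Module.Projective (A ⧸ I) (M ⧸ I • (⊤ : Submodule A M)) := by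
  classical
  obtain ⟨r, f, g, -, -, hfg⟩ := Module.Finite.exists_comp_eq_id_of_projective (A ⧸ K) M
  -- the `A`-linear factor map
  let fac : (A ⧸ K) →ₗ[A] (A ⧸ I) :=
    Submodule.liftQ K (Submodule.mkQ I) (by rw [Submodule.ker_mkQ]; exact hKI)
  have hfac : ∀ a : A, fac (Ideal.Quotient.mk K a) = Ideal.Quotient.mk I a := fun a => rfl
  let φ : M →ₗ[A] (Fin r → A ⧸ I) :=
    LinearMap.pi fun j => fac ∘ₗ (LinearMap.proj j) ∘ₗ (g.restrictScalars A)
  have hφ : I • (⊤ : Submodule A M) ≤ LinearMap.ker φ := by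
    rw [Submodule.smul_le]
    intro a ha m _
    rw [LinearMap.mem_ker, map_smul]
    funext j
    rw [Pi.smul_apply, Pi.zero_apply, Algebra.smul_def, Ideal.Quotient.algebraMap_eq,
      Ideal.Quotient.eq_zero_iff_mem.mpr ha, zero_mul]
  let i₀ : (M ⧸ I • (⊤ : Submodule A M)) →ₗ[A] (Fin r → A ⧸ I) :=
    (I • (⊤ : Submodule A M)).liftQ φ hφ
  let i' : (M ⧸ I • (⊤ : Submodule A M)) →ₗ[A ⧸ I] (Fin r → A ⧸ I) :=
    i₀.extendScalarsOfSurjective Ideal.Quotient.mk_surjective
  let s' : (Fin r → A ⧸ I) →ₗ[A ⧸ I] (M ⧸ I • (⊤ : Submodule A M)) :=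
    Fintype.linearCombination (A ⧸ I)
      (fun j => (I • (⊤ : Submodule A M)).mkQ (f (Pi.single j 1)))
  have key : ∀ (c : A ⧸ K) (y : M),
      fac c • (I • (⊤ : Submodule A M)).mkQ y = (I • (⊤ : Submodule A M)).mkQ (c • y) := by
    intro c y
    obtain ⟨a, rfl⟩ := Ideal.Quotient.mk_surjective c
    rw [hfac]
    have : (Ideal.Quotient.mk K a) • y = a • y := by
      rw [← Ideal.Quotient.algebraMap_eq, algebraMap_smul]
    rw [this]
    rfl
  refine Module.Projective.of_split i' s' ?_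
  ext x
  obtain ⟨m, rfl⟩ := Submodule.mkQ_surjective _ x
  rw [LinearMap.comp_apply, LinearMap.id_apply]
  have h1 : i' ((I • (⊤ : Submodule A M)).mkQ m) = fun j => fac (g m j) := rfl
  rw [h1, Fintype.linearCombination_apply]
  simp only [key]
  rw [← map_sum]
  congr 1
  have h2 : ∑ j, (g m j) • f (Pi.single j 1) = f (g m) := by
    conv_rhs => rw [pi_eq_sum_univ' (g m)]
    rw [map_sum]
    refine Finset.sum_congr rfl fun j _ => ?_
    rw [map_smul]
  rw [h2]
  exact LinearMap.congr_fun hfg m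

end Groth.Agent.H8.DM
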