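import Mathlib
import Groth.Agent.Lib.Helper8.DM.HT
import Groth.Agent.Lib.Helper8.DM.Tower

/-! `M/VM` is projective for truncated Dieudonné modules of level `n ≥ 2` over a perfect ring. -/

set_option autoImplicit false

universe u v

namespace Groth.Agent.H8.DM

open WittVector

variable {p : ℕ} [hp : Fact p.Prime] {k : Type u} [CommRing k] [CharP k p] [PerfectRing k p]
variable {M : Type v} [AddCommGroup M] [Module (WittVector p k) M]
variable (F : M →ₛₗ[(WittVector.frobenius : WittVector p k →+* WittVector p k)] M)
variable (V : M →ₛₗ[((WittVector.frobeniusEquiv p k).symm : WittVector p k →+* WittVector p k)] M)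
variable (hFV : ∀ m : M, F (V m) = (p : WittVector p k) • m)
variable (hVF : ∀ m : M, V (F m) = (p : WittVector p k) • m)

include hFV hVF in
theorem projective_MV_trunc (n : ℕ) (hn : 2 ≤ n)
    [Module (WittVector p k ⧸ Ideal.span {(p : WittVector p k) ^ n}) M]
    [IsScalarTower (WittVector p k) (WittVector p k ⧸ Ideal.span {(p : WittVector p k) ^ n}) M]
    [Module.Finite (WittVector p k ⧸ Ideal.span {(p : WittVector p k) ^ n}) M]
    [Module.Projective (WittVector p k ⧸ Ideal.span {(p : WittVector p k) ^ n}) M] :
    Module.Projective (WittVector p k ⧸ Ideal.span {(p : WittVector p k)})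
      ((M ⧸ (Ideal.span {(p : WittVector p k)} • (⊤ : Submodule (WittVector p k) M))) ⧸
        Submodule.span (WittVector p k ⧸ Ideal.span {(p : WittVector p k)})
          (Set.range fun m : M =>
            (Ideal.span {(p : WittVector p k)} • (⊤ : Submodule (WittVector p k) M)).mkQ (V m))) := by
  have hfinW : Module.Finite (WittVector p k) M :=
    Module.Finite.trans (WittVector p k ⧸ Ideal.span {(p : WittVector p k) ^ n}) M
  have hKI : Ideal.span {(p : WittVector p k) ^ n} ≤ Ideal.span {(p : WittVector p k)} :=
    Ideal.span_singleton_le_span_singleton.mpr (dvd_pow_self _ (by omega))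
  have hproj := projective_quotient_of_tower (Ideal.span {(p : WittVector p k) ^ n})
    (Ideal.span {(p : WittVector p k)}) hKI (M := M)
  refine projective_of_hT F V hFV hVF (rangeV_fg V) ?_
  intro 𝔪 hrad z hz
  obtain ⟨r, f, g, -, -, hfg⟩ := Module.Finite.exists_comp_eq_id_of_projective
    (WittVector p k ⧸ Ideal.span {(p : WittVector p k) ^ n}) M
  exact hT_of_split _ _ (g.restrictScalars (WittVector p k)) (f.restrictScalars (WittVector p k))
    (fun m => LinearMap.congr_fun hfg m) _ (hT_pi_quot hn hrad) z hz

end Groth.Agent.H8.DM
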